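import Groth.Agent.EtDescentLib.Big
import Mathlib.AlgebraicGeometry.Sites.Fpqc

/-!
# Étale sheaves with germs are fpqc sheaves
-/

set_option autoImplicit false
set_option linter.style.haveILetI false
set_option linter.unusedSectionVars false
set_option backward.isDefEq.respectTransparency false
set_option backward.isDefEq.respectTransparency.types false
universe u v w

open CategoryTheory CategoryTheory.Limits AlgebraicGeometry Opposite Topology

namespace EtDescentLib

/-- Flat quasi-compact coverings detect open subsets. -/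
theorem isOpen_of_quasiCompactCover {V : Scheme.{u}} (𝒰 : Scheme.Cover.{w} (Scheme.precoverage @Flat) V)
    [QuasiCompactCover 𝒰.toPreZeroHypercover] (A : Set V)
    (hA : ∀ i, IsOpen ((𝒰.f i).base ⁻¹' A)) : IsOpen A := by
  refine isOpen_iff_forall_mem_open.2 fun z hz => ?_
  obtain ⟨O, hO, hzO, -⟩ := exists_isAffineOpen_mem_and_subset (X := V) (x := z) (U := ⊤) trivial
  obtain ⟨n, a, W, hW, heq⟩ := QuasiCompactCover.exists_isAffineOpen_of_isCompact 𝒰.toPreZeroHypercover hO.isCompact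
  haveI : IsAffine (O : Scheme.{u}) := hO
  haveI : ∀ i, IsAffine (W i : Scheme.{u}) := hW
  have hle : ∀ i, W i ≤ (𝒰.f (a i)) ⁻¹ᵁ O := fun i x hx => by
    show (𝒰.f (a i)).base x ∈ (O : Set V)
    rw [← heq]
    exact Set.mem_iUnion.2 ⟨i, x, hx, rfl⟩
  let r : ∀ i : ULift.{u} (Fin n), (W (ULift.down i) : Scheme.{u}) ⟶ O :=
    fun i => (𝒰.f (a (ULift.down i))).resLE O (W (ULift.down i)) (hle _)
  have hr : ∀ i u, O.ι (r i u) = 𝒰.f (a i.down) ((W i.down).ι u) := fun i u => by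
    rw [← Scheme.Hom.comp_apply, Scheme.Hom.resLE_comp_ι, Scheme.Hom.comp_apply]
  haveI : ∀ i, Flat (r i) := fun i => by
    haveI : Flat (𝒰.f (a i.down)) := 𝒰.map_prop _
    have : Flat (r i ≫ O.ι) := by rw [Scheme.Hom.resLE_comp_ι]; infer_instance
    exact MorphismProperty.of_postcomp (W := @Flat) (W' := @IsOpenImmersion) (r i) O.ι inferInstance this
  let d : (∐ fun i : ULift.{u} (Fin n) => (W i.down : Scheme.{u})) ⟶ O := Limits.Sigma.desc r
  haveI : Flat d := IsZariskiLocalAtSource.sigmaDesc inferInstance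
  haveI : QuasiCompact d := (quasiCompact_iff_compactSpace d).2 inferInstance
  haveI : Surjective d := ⟨fun v => by
    obtain ⟨i, x, hx, hxv⟩ := Set.mem_iUnion.1 (heq.symm ▸ v.2 :
      (v.1 : V) ∈ ⋃ i, (𝒰.f (a i)).base '' (W i : Set (𝒰.X (a i))))
    refine ⟨Limits.Sigma.ι (fun i : ULift.{u} (Fin n) => (W i.down : Scheme.{u})) ⟨i⟩ ⟨x, hx⟩,
      O.ι.isOpenEmbedding.injective ?_⟩
    rw [← Scheme.Hom.comp_apply _ d, Limits.Sigma.ι_desc, hr]
    exact hxv⟩
  have h1 : IsOpen (d.base ⁻¹' (O.ι.base ⁻¹' A)) := by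
    rw [← Set.biUnion_of_singleton (d.base ⁻¹' (O.ι.base ⁻¹' A))]
    refine isOpen_iff_forall_mem_open.2 fun y hy => ?_
    rw [Set.biUnion_of_singleton] at hy ⊢
    obtain ⟨i, u, rfl⟩ := (sigmaOpenCover fun i : ULift.{u} (Fin n) => (W i.down : Scheme.{u})).exists_eq y
    refine ⟨(Limits.Sigma.ι (fun i : ULift.{u} (Fin n) => (W i.down : Scheme.{u})) i).base '' ((W i.down).ι.base ⁻¹' ((𝒰.f (a i.down)).base ⁻¹' A)),
      ?_, (Limits.Sigma.ι (fun i : ULift.{u} (Fin n) => (W i.down : Scheme.{u})) i).isOpenEmbedding.isOpenMap _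
        ((hA _).preimage (W i.down).ι.continuous), ⟨u, ?_, rfl⟩⟩
    · rintro _ ⟨x, hx, rfl⟩
      show O.ι (d _) ∈ A
      rw [← Scheme.Hom.comp_apply _ d, Limits.Sigma.ι_desc, hr]
      exact hx
    · show 𝒰.f (a i.down) ((W i.down).ι u) ∈ A
      rw [← hr, ← Limits.Sigma.ι_desc r i, Scheme.Hom.comp_apply]
      exact hy
  have h2 : IsOpen (O.ι.base ⁻¹' A) := (Flat.isQuotientMap_of_surjective d).isOpen_preimage.1 h1
  exact ⟨_, Set.image_preimage_subset O.ι.base A, O.ι.isOpenEmbedding.isOpenMap _ h2, ⟨z, hzO⟩, hz, rfl⟩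

variable {S : Scheme.{u}} {P : (Over S)ᵒᵖ ⥤ Type v}

/-- Presheaves with germs satisfy the sheaf condition for fpqc coverings. -/
theorem HasGerms.isSheaf_fpqc (hP : HasGerms P) :
    Presieve.IsSheaf (QuotSh.J Scheme.fpqcPrecoverage S) P := by
  show Presieve.IsSheaf (Scheme.fpqcPrecoverage.toGrothendieck.over S) P
  rw [over_toGrothendieck_eq_toGrothendieck_comap_forget,
    Precoverage.isSheaf_toGrothendieck_iff_of_isStableUnderBaseChange]
  intro T R hR
  rw [Precoverage.mem_comap_iff] at hR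
  have hR' := Scheme.mem_propQCPrecoverage_iff_exists_quasiCompactCover.1 hR
  obtain ⟨𝒰, -, h𝒰⟩ := hR'
  have key : ∀ {Z : Scheme.{u}} {k : Z ⟶ T.left}, Presieve.map (Over.forget S) R k → ∀ (x : Z) {z : T.left},
      k x = z → ∃ (i : Σ Y, {g : Y ⟶ T // R g}) (x : i.1.left), i.2.1.left x = z := by
    rintro _ _ ⟨hg⟩ x z hx
    exact ⟨⟨_, _, hg⟩, x, hx⟩
  have hsurj : ∀ z : T.left, ∃ (i : Σ Y, {g : Y ⟶ T // R g}) (x : i.1.left), i.2.1.left x = z := fun z => by
    obtain ⟨i, x, hx⟩ := 𝒰.exists_eq z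
    have : Presieve.map (Over.forget S) R (𝒰.f i) := by rw [h𝒰]; exact ⟨i⟩
    exact key this x hx
  have key' : ∀ {V : Over S} {v : V ⟶ T} [Presieve.HasPullbacks (Presieve.map (Over.forget S) R) v.left]
      {A : Set V.left} {Z : Scheme.{u}} {k : Z ⟶ V.left},
      Presieve.pullbackArrows v.left (Presieve.map (Over.forget S) R) k →
      (∀ {Y : Over S} (g : Y ⟶ T), R g → IsOpen ((pullback.snd g.left v.left).base ⁻¹' A)) →
      IsOpen (k.base ⁻¹' A) := by
    rintro V v _ A _ _ ⟨Z, h, hh⟩ hA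
    obtain ⟨hg⟩ := hh
    exact hA _ hg
  intro x hx
  obtain ⟨s, hs, huniq⟩ := hP.descend (fun i : Σ Y, {g : Y ⟶ T // R g} => i.2.1) hsurj
    (fun V v _ A hA => by
      haveI : Presieve.HasPullbacks (Presieve.map (Over.forget S) R) v.left := ⟨fun {_ _} _ => inferInstance⟩
      have hR2 : Presieve.pullbackArrows v.left (Presieve.map (Over.forget S) R) ∈
          Scheme.propQCPrecoverage @Flat V.left :=
        Precoverage.pullbackArrows_mem (J := Scheme.fpqcPrecoverage) v.left hR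
      obtain ⟨𝒱, h𝒱qc, h𝒱⟩ := Scheme.mem_propQCPrecoverage_iff_exists_quasiCompactCover.1 hR2
      haveI := h𝒱qc
      refine isOpen_of_quasiCompactCover 𝒱 A fun j => ?_
      have : Presieve.pullbackArrows v.left (Presieve.map (Over.forget S) R) (𝒱.f j) := by
        rw [h𝒱]; exact ⟨j⟩
      refine key' this fun g hg => hA ⟨_, g, hg⟩)
    (fun i => x i.2.1 i.2.2) (fun i j G a b _ hab => hx a b i.2.2 j.2.2 hab)
  exact ⟨s, fun Y g hg => hs ⟨Y, g, hg⟩, fun s' hs' => huniq s' fun i => hs' i.2.1 i.2.2⟩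

variable (S)

/-- The pullback from the small étale site is an fpqc sheaf. -/
theorem hasGerms_piEtPull (F : EtCoh.Ab S) :
    HasGerms (((BigSite.piEtPull Scheme.etalePrecoverage S).obj F).obj ⋙ forget AddCommGrpCat.{u + 1}) := by
  let e := (Functor.sheafPullbackConstruction.sheafPullbackIso (EtFppf.a S) AddCommGrpCat.{u + 1}
    S.smallEtaleTopology (QuotSh.J Scheme.etalePrecoverage S)).app F
  let η : lanA F.obj ⟶ ((BigSite.piEtPull Scheme.etalePrecoverage S).obj F).obj :=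
    toSheafify (QuotSh.J Scheme.etalePrecoverage S) (lanA F.obj) ≫ e.inv.hom
  haveI : IsIso e.inv.hom := inferInstanceAs (IsIso ((sheafToPresheaf _ _).map e.inv))
  haveI : Presheaf.IsLocallyInjective (QuotSh.J Scheme.etalePrecoverage S) η := inferInstanceAs
    (Presheaf.IsLocallyInjective _ (toSheafify (QuotSh.J Scheme.etalePrecoverage S) (lanA F.obj) ≫ e.inv.hom))
  haveI : Presheaf.IsLocallySurjective (QuotSh.J Scheme.etalePrecoverage S) η := inferInstanceAs
    (Presheaf.IsLocallySurjective _ (toSheafify (QuotSh.J Scheme.etalePrecoverage S) (lanA F.obj) ≫ e.inv.hom))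
  exact hasGerms_of_locallyBijective _ η

theorem isSheaf_fpqc_piEtPull (F : EtCoh.Ab S) :
    Presheaf.IsSheaf (QuotSh.J Scheme.fpqcPrecoverage S) ((BigSite.piEtPull Scheme.etalePrecoverage S).obj F).obj := by
  rw [Presheaf.isSheaf_iff_isSheaf_forget _ _ (forget AddCommGrpCat.{u + 1}), isSheaf_iff_isSheaf_of_type]
  exact (hasGerms_piEtPull S F).isSheaf_fpqc

end EtDescentLib
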