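import Groth.Agent.EtDescentLib.Fppf
import Groth.Agent.BigEtLib.Compare

/-!
# The unit of pullback on global sections, in terms of the big étale site
-/

set_option autoImplicit false
set_option linter.style.haveILetI false
set_option linter.unusedSectionVars false
set_option backward.isDefEq.respectTransparency false
set_option backward.isDefEq.respectTransparency.types false
universe u

open CategoryTheory CategoryTheory.Limits AlgebraicGeometry Opposite

namespace EtDescentLib

variable {T S : Scheme.{u}} (f : T ⟶ S)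

/-- Pulling back global sections is bijective if it is so on the big site. -/
theorem bijective_unit_top (F : EtCoh.Ab S)
    (h : Function.Bijective ((((BigSite.piEtPull Scheme.etalePrecoverage S).obj F).obj).map
      (Over.homMk f : Over.mk f ⟶ Over.mk (𝟙 S)).op)) :
    Function.Bijective (((EtCoh.pullPushAdj f).unit.app F).hom.app (op (EtCoh.top S))) := by
  obtain ⟨c⟩ := BigBCLib.nonempty_pushBig_resEtAlong (f := f) (g := 𝟙 S) (g' := 𝟙 T) (f' := f)
    (IsPullback.of_horiz_isIso ⟨by simp⟩)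
  let cT : BigSite.resEtAlong Scheme.etalePrecoverage (𝟙 T) ≅ BigSite.resEt Scheme.etalePrecoverage T :=
    Functor.isoWhiskerRight ((Scheme.etalePrecoverage.toGrothendieck).overMapPullbackId AddCommGrpCat.{u + 1} T) _ ≪≫
      Functor.leftUnitor _
  let cS : BigSite.resEtAlong Scheme.etalePrecoverage (𝟙 S) ≅ BigSite.resEt Scheme.etalePrecoverage S :=
    Functor.isoWhiskerRight ((Scheme.etalePrecoverage.toGrothendieck).overMapPullbackId AddCommGrpCat.{u + 1} S) _ ≪≫
      Functor.leftUnitor _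
  let σ : BigSite.pushBig Scheme.etalePrecoverage f AddCommGrpCat.{u + 1} ⋙ BigSite.resEt Scheme.etalePrecoverage S ≅
      BigSite.resEt Scheme.etalePrecoverage T ⋙ EtCoh.push f :=
    Functor.isoWhiskerLeft _ cS.symm ≪≫ c ≪≫ Functor.isoWhiskerRight cT _
  let A₁ := ((BigSite.piEtAdj Scheme.etalePrecoverage S).comp (BigSite.bigAdj Scheme.etalePrecoverage f
    AddCommGrpCat.{u + 1})).ofNatIsoRight σ
  let A₂ := (EtCoh.pullPushAdj f).comp (BigSite.piEtAdj Scheme.etalePrecoverage T)
  haveI : IsIso (BigSite.piEtAdj Scheme.etalePrecoverage T).unit := BigEtLib.isIso_piEtAdj_unit T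
  haveI : IsIso (BigSite.piEtAdj Scheme.etalePrecoverage S).unit := BigEtLib.isIso_piEtAdj_unit S
  have key := Adjunction.unit_leftAdjointUniq_hom_app A₁ A₂ F
  let ev : EtCoh.Ab S ⥤ Type (u + 1) :=
    sheafToPresheaf _ _ ⋙ (evaluation _ _).obj (op (EtCoh.top S)) ⋙ forget AddCommGrpCat.{u + 1}
  let P := (BigSite.piEtPull Scheme.etalePrecoverage S).obj F
  have e1 : A₁.unit.app F = ((BigSite.piEtAdj Scheme.etalePrecoverage S).unit.app F ≫
      (BigSite.resEt Scheme.etalePrecoverage S).map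
        ((BigSite.bigAdj Scheme.etalePrecoverage f AddCommGrpCat.{u + 1}).unit.app P)) ≫ σ.hom.app _ := by
    simp [A₁, Adjunction.ofNatIsoRight, P]
  have e2 : A₂.unit.app F = (EtCoh.pullPushAdj f).unit.app F ≫
      (EtCoh.push f).map ((BigSite.piEtAdj Scheme.etalePrecoverage T).unit.app ((EtCoh.pull f).obj F)) := by
    simp [A₂]
  haveI : IsIso (ev.map ((BigSite.resEt Scheme.etalePrecoverage S).map
      ((BigSite.bigAdj Scheme.etalePrecoverage f AddCommGrpCat.{u + 1}).unit.app P))) := by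
    rw [isIso_iff_bijective]
    show Function.Bijective (P.obj.map ((Over.mapPullbackAdj f).counit.app ((EtFppf.a S).obj (EtCoh.top S))).op)
    let e : (Over.map f).obj ((Over.pullback f).obj ((EtFppf.a S).obj (EtCoh.top S))) ≅ Over.mk f :=
      Over.isoMk (asIso (pullback.snd (𝟙 S) f) :) (by
        show pullback.snd (𝟙 S) f ≫ f = pullback.snd (𝟙 S) f ≫ f
        rfl)
    have he : (Over.mapPullbackAdj f).counit.app ((EtFppf.a S).obj (EtCoh.top S)) =
        e.hom ≫ (Over.homMk f : Over.mk f ⟶ Over.mk (𝟙 S)) := (Over.mkIdTerminal (X := S)).hom_ext _ _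
    rw [he, op_comp, Functor.map_comp]
    exact ((P.obj.mapIso e.op).addCommGroupIsoToAddEquiv.bijective).comp h
  have h1 : IsIso (ev.map (A₂.unit.app F)) := by
    rw [← key, e1, Functor.map_comp, Functor.map_comp, Functor.map_comp]
    infer_instance
  rw [e2, Functor.map_comp] at h1
  haveI := h1
  exact (isIso_iff_bijective _).1 (IsIso.of_isIso_comp_right (ev.map ((EtCoh.pullPushAdj f).unit.app F))
    (ev.map ((EtCoh.push f).map ((BigSite.piEtAdj Scheme.etalePrecoverage T).unit.app ((EtCoh.pull f).obj F)))))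

variable {f}

/-- Values at geometric points of a connected scheme over a geometric point are constant. -/
theorem HasGerms.map_eq_of_connected {P : (Over S)ᵒᵖ ⥤ Type (u + 1)} (hP : HasGerms P) {Fib G : Over S}
    (π : Fib ⟶ G) (hG : IsGeo G.left) [ConnectedSpace ↥Fib.left] (σ : P.obj (op Fib))
    (a b : G ⟶ Fib) (ha : a ≫ π = 𝟙 G) (hb : b ≫ π = 𝟙 G) : P.map a.op σ = P.map b.op σ := by
  have hcov : ∀ q : Fib.left, ∃ x : P.obj (op G), q ∈ eqLocus Fib σ (P.map π.op x) := fun q => by
    obtain ⟨H, c, hH, hc⟩ := exists_geo_at Fib q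
    obtain ⟨x, hx⟩ := hP.surjective (c ≫ π) hH hG (P.map c.op σ)
    obtain ⟨y⟩ := hH.nonempty
    refine ⟨x, hc y ▸ hP.mem_eqLocus c hH ?_ y⟩
    rw [← map_comp_apply', hx]
  have huniq : ∀ q x x', q ∈ eqLocus Fib σ (P.map π.op x) → q ∈ eqLocus Fib σ (P.map π.op x') → x = x' := by
    intro q x x' h h'
    obtain ⟨H, c, hH, hc⟩ := exists_geo_at Fib q
    refine hP.injective (c ≫ π) hH hG ?_
    rw [map_comp_apply', map_comp_apply', ← eq_of_mem_eqLocus h c hH hc, ← eq_of_mem_eqLocus h' c hH hc]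
  obtain ⟨y⟩ := hG.nonempty
  obtain ⟨x₀, hx₀⟩ := hcov (a.left y)
  have hclopen : IsClopen (eqLocus Fib σ (P.map π.op x₀)) := by
    refine ⟨⟨?_⟩, isOpen_eqLocus _ _ _⟩
    rw [show (eqLocus Fib σ (P.map π.op x₀))ᶜ = ⋃ (x) (_ : x ≠ x₀), eqLocus Fib σ (P.map π.op x) from ?_]
    · exact isOpen_iUnion fun x => isOpen_iUnion fun _ => isOpen_eqLocus _ _ _
    · ext q
      simp only [Set.mem_compl_iff, Set.mem_iUnion]
      constructor
      · intro hq
        obtain ⟨x, hx⟩ := hcov q
        exact ⟨x, fun e => hq (e ▸ hx), hx⟩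
      · rintro ⟨x, hne, hx⟩ hq
        exact hne (huniq q x x₀ hx hq)
  have key : ∀ c : G ⟶ Fib, c ≫ π = 𝟙 G → P.map c.op σ = x₀ := fun c hc => by
    have hmem : c.left y ∈ eqLocus Fib σ (P.map π.op x₀) := (hclopen.eq_univ ⟨_, hx₀⟩).symm ▸ Set.mem_univ _
    rw [eq_of_mem_eqLocus hmem c hG fun y' => congrArg c.left (hG.subsingleton y' y), ← map_comp_apply', hc,
      op_id, P.map_id, types_id_apply]
  rw [key a ha, key b hb]

/-- Descent along universally submersive morphisms with connected geometric fibres. -/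
theorem HasGerms.bijective_of_connected {P : (Over S)ᵒᵖ ⥤ Type (u + 1)} (hP : HasGerms P) (f : T ⟶ S)
    (hsub : ∀ (S' : Scheme.{u}) (g : S' ⟶ S), Topology.IsQuotientMap (pullback.snd f g).base)
    (hc : ∀ (Ω : Type u) [Field Ω] [IsAlgClosed Ω] (s : Spec (CommRingCat.of Ω) ⟶ S),
      ConnectedSpace ↥(pullback f s)) :
    Function.Bijective (P.map (Over.homMk f : Over.mk f ⟶ Over.mk (𝟙 S)).op) := by
  let g : PUnit.{u + 1} → ((Over.mk f : Over S) ⟶ Over.mk (𝟙 S)) := fun _ => Over.homMk f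
  have hsurj : ∀ z : S, ∃ (_ : PUnit.{u + 1}) (x : T), f x = z := fun z => by
    obtain ⟨p, hp⟩ := (hsub S (𝟙 S)).surjective z
    refine ⟨⟨⟩, pullback.fst f (𝟙 S) p, ?_⟩
    rw [← Scheme.Hom.comp_apply, pullback.condition, Category.comp_id]
    exact hp
  have D := fun (s' : P.obj (op (Over.mk f))) hs' => hP.descend g hsurj
    (fun V v _ A hA => (hsub V.left v.left).isOpen_preimage.1 (hA ⟨⟩)) (fun _ => s') hs'
  constructor
  · intro s t hst
    exact (D (P.map (g ⟨⟩).op s) fun i j G a b _ hab => by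
      rw [← map_comp_apply', ← map_comp_apply', hab]).unique (fun _ => rfl) fun _ => hst.symm
  · intro s'
    refine ⟨(D s' ?_).exists.choose, (D s' ?_).exists.choose_spec ⟨⟩⟩ <;>
    · intro i j G a b hG hab
      obtain ⟨Ω, _, _, ⟨e⟩⟩ := id hG
      let s : Spec (CommRingCat.of Ω) ⟶ S := e.inv ≫ G.hom
      haveI := hc Ω s
      let Fib : Over S := Over.mk (pullback.fst f s ≫ f)
      haveI : ConnectedSpace ↥Fib.left := hc Ω s
      let G₀ : Over S := Over.mk s
      let π : Fib ⟶ G₀ := Over.homMk (pullback.snd f s) pullback.condition.symm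
      let pr : Fib ⟶ Over.mk f := Over.homMk (pullback.fst f s) rfl
      let ε : G₀ ⟶ G := Over.homMk e.inv rfl
      have hw : ∀ a : G ⟶ Over.mk f, (e.inv ≫ a.left) ≫ f = 𝟙 _ ≫ s := fun a => by
        rw [Category.id_comp, Category.assoc]
        exact congrArg (e.inv ≫ ·) (Over.w a)
      let sec : (G ⟶ Over.mk f) → (G₀ ⟶ Fib) := fun a =>
        Over.homMk (pullback.lift (e.inv ≫ a.left) (𝟙 _) (hw a)) (by
          show pullback.lift (e.inv ≫ a.left) (𝟙 _) (hw a) ≫ pullback.fst f s ≫ f = s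
          rw [pullback.lift_fst_assoc, hw a, Category.id_comp])
      have hsec : ∀ a, sec a ≫ π = 𝟙 G₀ := fun a => Over.OverMorphism.ext (pullback.lift_snd _ _ _)
      have hpr : ∀ a, sec a ≫ pr = ε ≫ a := fun a => Over.OverMorphism.ext (pullback.lift_fst _ _ _)
      have hG₀ : IsGeo G₀.left := ⟨Ω, inferInstance, inferInstance, ⟨Iso.refl _⟩⟩
      apply hP.injective ε hG₀ hG
      rw [← map_comp_apply', ← map_comp_apply', ← hpr, ← hpr, map_comp_apply', map_comp_apply']
      exact hP.map_eq_of_connected π hG₀ _ _ _ (hsec a) (hsec b)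

end EtDescentLib
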