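import Groth.Agent.EtDescentLib.Fpqc
import Groth.Agent.BigEtLib.Compare
import Groth.Prelude.Def_EtFppf

/-!
# The pullback to the big fppf site
-/

set_option autoImplicit false
set_option linter.style.haveILetI false
set_option linter.unusedSectionVars false
set_option backward.isDefEq.respectTransparency false
set_option backward.isDefEq.respectTransparency.types false
universe u

open CategoryTheory CategoryTheory.Limits AlgebraicGeometry Opposite

namespace EtDescentLib

variable (S : Scheme.{u})

theorem isSheaf_of_le' {C : Type*} [Category* C] {A : Type*} [Category* A] {J K : GrothendieckTopology C} (h : J ≤ K)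
    {P : Cᵒᵖ ⥤ A} (hP : Presheaf.IsSheaf K P) : Presheaf.IsSheaf J P :=
  fun X => Presieve.isSheaf_of_le _ h (hP X)

/-- The pullback to the big étale site, viewed as an fppf sheaf. -/
noncomputable def piFppf : EtCoh.Ab S ⥤ EtFppf.AbF S :=
  ObjectProperty.lift _ (BigSite.piEtPull Scheme.etalePrecoverage S ⋙ sheafToPresheaf _ _)
    fun F => isSheaf_of_le'
      (BigSite.J_mono Scheme.fppfPrecoverage_le_fpqcPrecoverage S) (isSheaf_fpqc_piEtPull S F)

/-- An fppf sheaf is a sheaf on the big étale site. -/
noncomputable def fppfIncl : EtFppf.AbF S ⥤ BigSite.Ab Scheme.etalePrecoverage S :=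
  ObjectProperty.ιOfLE fun _ h => isSheaf_of_le'
    (BigSite.J_mono BigSite.etalePrecoverage_le_fppfPrecoverage S) h

/-- The pullback to the big fppf site is the pullback to the big étale site. -/
noncomputable def aPullIso [EtFppf.ACont S] : EtFppf.aPull S ≅ piFppf S :=
  Adjunction.leftAdjointUniq (EtFppf.aAdj S)
    ((BigSite.piEtAdj Scheme.etalePrecoverage S).restrictFullyFaithful (iC := 𝟭 (EtCoh.Ab S)) (iD := fppfIncl S)
      (Functor.FullyFaithful.id _) (ObjectProperty.fullyFaithfulιOfLE _)
      (Iso.refl _) (Iso.refl _))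

/-- Sections of the pullback to the big étale site. -/
theorem nonempty_sectionsIso (T : Over S) (F : EtCoh.Ab S) :
    Nonempty (((BigSite.piEtPull Scheme.etalePrecoverage S).obj F).obj.obj (op T) ≅
      ((EtCoh.pull T.hom).obj F).obj.obj (op (EtCoh.top T.left))) := by
  obtain ⟨i⟩ := BigEtLib.nonempty_resEtAlong_piEtPull T.hom
  refine ⟨((BigSite.piEtPull Scheme.etalePrecoverage S).obj F).obj.mapIso (Iso.op ?_) ≪≫
    ((sheafToPresheaf _ _).mapIso (i.app F)).app (op (EtCoh.top T.left))⟩
  exact Over.isoMk (Iso.refl _) (by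
    show 𝟙 T.left ≫ T.hom = 𝟙 T.left ≫ T.hom
    rfl)

end EtDescentLib
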