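import Groth.Agent.EtDescentLib.Geo
import Groth.Prelude.Def_BigSite

/-!
# Descent of sections of étale sheaves along families detecting open subsets

A presheaf on schemes over a base "has germs" if it is a sheaf for the étale topology whose values at
geometric points are computed by étale neighbourhoods. For such a presheaf a section over `T'` whose
values at geometric points only depend on the image in `T` descends to `T`, provided base changes of
`T' → T` to étale `T`-schemes detect open subsets.
-/

set_option autoImplicit false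
set_option linter.style.haveILetI false
set_option linter.unusedSectionVars false
set_option backward.isDefEq.respectTransparency false
universe u v

open CategoryTheory CategoryTheory.Limits AlgebraicGeometry Opposite

namespace EtDescentLib

variable {S : Scheme.{u}}

/-- Jointly surjective étale families are coverings. -/
theorem ofArrows_mem {T : Over S} {ι : Type u} (W : ι → Over S) (h : ∀ i, W i ⟶ T) (het : ∀ i, Etale (h i).left)
    (hs : ∀ z : T.left, ∃ i w, (h i).left w = z) :
    Sieve.ofArrows W h ∈ QuotSh.J Scheme.etalePrecoverage S T := by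
  rw [GrothendieckTopology.mem_over_iff]
  refine GrothendieckTopology.superset_covering _ ?_ (Precoverage.generate_mem_toGrothendieck
    (J := Scheme.etalePrecoverage) (R := Presieve.ofArrows (fun i => (W i).left) fun i => (h i).left)
    ((Scheme.ofArrows_mem_precoverage_iff _).2 ⟨fun z => hs z, het⟩))
  rw [Sieve.generate_le_iff]
  rintro _ _ ⟨i⟩
  exact (Sieve.overEquiv_iff _ _).2 ⟨W i, Over.homMk (𝟙 _) ((Category.id_comp _).trans (Over.w (h i)).symm), h i,
    ⟨i⟩, Over.OverMorphism.ext (Category.id_comp _)⟩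

/-- Presheaves whose values at geometric points are computed by étale neighbourhoods. -/
structure HasGerms (P : (Over S)ᵒᵖ ⥤ Type v) : Prop where
  sheaf : Presieve.IsSheaf (QuotSh.J Scheme.etalePrecoverage S) P
  exists_germ : ∀ {T G : Over S} (a : G ⟶ T), IsGeo G.left → ∀ x : P.obj (op G),
    ∃ (W : Over S) (h : W ⟶ T) (_ : Etale h.left) (b : G ⟶ W) (t : P.obj (op W)),
      b ≫ h = a ∧ P.map b.op t = x
  exists_eq : ∀ {T G : Over S} (a : G ⟶ T), IsGeo G.left → ∀ s t : P.obj (op T), P.map a.op s = P.map a.op t →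
    ∃ (W : Over S) (h : W ⟶ T) (_ : Etale h.left) (b : G ⟶ W), b ≫ h = a ∧ P.map h.op s = P.map h.op t

variable {P : (Over S)ᵒᵖ ⥤ Type v}

theorem map_comp_apply' {A B C : Over S} (f : A ⟶ B) (g : B ⟶ C) (x : P.obj (op C)) :
    P.map (f ≫ g).op x = P.map f.op (P.map g.op x) := by
  rw [op_comp, Functor.map_comp_apply]

/-- Values do not change under extension of geometric points. -/
theorem HasGerms.injective (hP : HasGerms P) {G' G : Over S} (e : G' ⟶ G) (hG' : IsGeo G'.left)
    (hG : IsGeo G.left) : Function.Injective (P.map e.op) := by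
  intro s t hst
  obtain ⟨W, h, hh, b, -, heq⟩ := hP.exists_eq e hG' s t hst
  haveI := hh
  obtain ⟨y'⟩ := hG'.nonempty
  obtain ⟨c, hc, -⟩ := exists_lift h (𝟙 G) hG (b.left y') fun y => hG.subsingleton _ _
  have := congrArg (P.map c.op) heq
  rwa [← map_comp_apply', ← map_comp_apply', hc, op_id, P.map_id, types_id_apply, types_id_apply] at this

theorem HasGerms.surjective (hP : HasGerms P) {G' G : Over S} (e : G' ⟶ G) (hG' : IsGeo G'.left)
    (hG : IsGeo G.left) : Function.Surjective (P.map e.op) := by
  intro x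
  obtain ⟨W, h, hh, b, t, hb, ht⟩ := hP.exists_germ e hG' x
  haveI := hh
  obtain ⟨y'⟩ := hG'.nonempty
  obtain ⟨c, hc, hcw⟩ := exists_lift h (𝟙 G) hG (b.left y') fun y => hG.subsingleton _ _
  refine ⟨P.map c.op t, hP.injective (G' := G') (𝟙 G') hG' hG' ?_⟩
  obtain ⟨G'', e₁, e₂, hG'', he⟩ := exists_common (e ≫ c) b hG' hG' (b.left y')
    (fun y => hcw _) (fun y => congrArg b.left (hG'.subsingleton y y'))
  rw [op_id, P.map_id, types_id_apply, types_id_apply, ← ht, ← map_comp_apply']
  apply hP.injective e₂ hG'' hG'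
  have h12 : e₁ ≫ e = e₂ ≫ e := by
    have h1 := congrArg (· ≫ h) he
    simpa only [Category.assoc, hc, Category.comp_id, hb] using h1
  rw [← map_comp_apply', ← map_comp_apply', ← he, reassoc_of% h12]

/-- The locus where two sections are equal étale locally. -/
def eqLocus (T : Over S) (s t : P.obj (op T)) : Set T.left :=
  {z | ∃ (W : Over S) (h : W ⟶ T) (_ : Etale h.left), z ∈ Set.range h.left.base ∧ P.map h.op s = P.map h.op t}

theorem isOpen_eqLocus (T : Over S) (s t : P.obj (op T)) : IsOpen (eqLocus T s t) := by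
  rw [isOpen_iff_forall_mem_open]
  rintro z ⟨W, h, hh, hz, he⟩
  exact ⟨Set.range h.left.base, fun z' hz' => ⟨W, h, hh, hz', he⟩, h.left.isOpenMap.isOpen_range, hz⟩

theorem eq_of_mem_eqLocus {T : Over S} {s t : P.obj (op T)} {z : T.left} (hz : z ∈ eqLocus T s t) {G : Over S}
    (a : G ⟶ T) (hG : IsGeo G.left) (ha : ∀ y, a.left y = z) : P.map a.op s = P.map a.op t := by
  obtain ⟨W, h, hh, ⟨w, rfl⟩, he⟩ := hz
  haveI := hh
  obtain ⟨b, rfl, -⟩ := exists_lift h a hG w ha
  rw [map_comp_apply', map_comp_apply', he]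

theorem HasGerms.mem_eqLocus (hP : HasGerms P) {T G : Over S} (a : G ⟶ T) (hG : IsGeo G.left)
    {s t : P.obj (op T)} (h : P.map a.op s = P.map a.op t) (y : G.left) : a.left y ∈ eqLocus T s t := by
  obtain ⟨W, h', hh, b, rfl, he⟩ := hP.exists_eq a hG s t h
  exact ⟨W, h', hh, ⟨b.left y, rfl⟩, he⟩

/-- Sections are determined by their values at geometric points. -/
theorem HasGerms.ext (hP : HasGerms P) {T : Over S} {s t : P.obj (op T)}
    (h : ∀ (G : Over S) (a : G ⟶ T), IsGeo G.left → P.map a.op s = P.map a.op t) : s = t := by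
  have key : ∀ z : T.left, ∃ (W : Over S) (m : W ⟶ T) (_ : Etale m.left), z ∈ Set.range m.left.base ∧
      P.map m.op s = P.map m.op t := fun z => by
    obtain ⟨G, a, hG, ha⟩ := exists_geo_at T z
    obtain ⟨y⟩ := hG.nonempty
    exact ha y ▸ hP.mem_eqLocus a hG (h G a hG) y
  choose W m hm hz he using key
  refine ((Presieve.isSheafFor_iff_generate _).2 (hP.sheaf _ (ofArrows_mem W m hm fun z => ⟨z, hz z⟩))).isSeparatedFor.ext ?_
  rintro _ _ ⟨z⟩
  exact he z

/-- Sections over an étale covering agreeing at geometric points glue. -/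
theorem HasGerms.exists_glue (hP : HasGerms P) {T : Over S} {ι : Type u} (W : ι → Over S) (h : ∀ i, W i ⟶ T)
    (het : ∀ i, Etale (h i).left) (hs : ∀ z : T.left, ∃ i w, (h i).left w = z) (σ : ∀ i, P.obj (op (W i)))
    (hσ : ∀ (i j : ι) (G : Over S) (a : G ⟶ W i) (b : G ⟶ W j), IsGeo G.left → a ≫ h i = b ≫ h j →
      P.map a.op (σ i) = P.map b.op (σ j)) :
    ∃ s : P.obj (op T), ∀ i, P.map (h i).op s = σ i := by
  have hsh := (Presieve.isSheafFor_arrows_iff P h).1
    ((Presieve.isSheafFor_iff_generate _).2 (hP.sheaf _ (ofArrows_mem W h het hs)))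
  exact (hsh σ fun i j Z gi gj e => hP.ext fun G a hG => by
    rw [← map_comp_apply', ← map_comp_apply']
    exact hσ i j G _ _ hG (by rw [Category.assoc, Category.assoc, e])).exists

/-- Descent of sections whose values at geometric points only depend on the image. -/
theorem HasGerms.descend (hP : HasGerms P) {T : Over S} {ι : Type*} {T' : ι → Over S} (g : ∀ i, T' i ⟶ T)
    (hsurj : ∀ z : T.left, ∃ i x, (g i).left x = z)
    (hopen : ∀ (V : Over S) (v : V ⟶ T) [Etale v.left] (A : Set V.left),
      (∀ i, IsOpen ((pullback.snd (g i).left v.left).base ⁻¹' A)) → IsOpen A)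
    (s' : ∀ i, P.obj (op (T' i)))
    (hs' : ∀ (i j : ι) (G : Over S) (a : G ⟶ T' i) (b : G ⟶ T' j), IsGeo G.left → a ≫ g i = b ≫ g j →
      P.map a.op (s' i) = P.map b.op (s' j)) :
    ∃! s : P.obj (op T), ∀ i, P.map (g i).op s = s' i := by
  have inj : ∀ s t : P.obj (op T), (∀ i, P.map (g i).op s = P.map (g i).op t) → s = t := fun s t h =>
    hP.ext fun G a hG => by
      obtain ⟨y⟩ := hG.nonempty
      obtain ⟨i, x, hx⟩ := hsurj (a.left y)
      obtain ⟨G', e, a', hG', he, -⟩ := exists_extension (g i) a hG x fun y' => by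
        rw [hx, hG.subsingleton y' y]
      apply hP.injective e hG' hG
      rw [← map_comp_apply', ← map_comp_apply', he, map_comp_apply', map_comp_apply', h i]
  let Agrees : ∀ (W : Over S) (w : W ⟶ T), P.obj (op W) → Prop := fun W w σ =>
    ∀ (i : ι) (G : Over S) (c : G ⟶ T' i) (d : G ⟶ W), IsGeo G.left → c ≫ g i = d ≫ w →
      P.map c.op (s' i) = P.map d.op σ
  have key : ∀ z : T.left, ∃ (W : Over S) (w : W ⟶ T) (_ : Etale w.left) (σ : P.obj (op W)),
      z ∈ Set.range w.left.base ∧ Agrees W w σ := by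
    intro z
    obtain ⟨G, a, hG, ha⟩ := exists_geo_at T z
    obtain ⟨i₀, x, hx⟩ := hsurj z
    obtain ⟨G', e, a', hG', he, -⟩ := exists_extension (g i₀) a hG x fun y => (ha y).trans hx.symm
    obtain ⟨V, v, hv, b, σ, hb, hσ⟩ := hP.exists_germ (a' ≫ g i₀) hG' (P.map a'.op (s' i₀))
    haveI := hv
    let A : Set V.left := {q | ∀ (i : ι) (H : Over S) (c : H ⟶ T' i) (d : H ⟶ V), IsGeo H.left →
      c ≫ g i = d ≫ v → (∀ y, d.left y = q) → P.map c.op (s' i) = P.map d.op σ}
    have hA : IsOpen A := by
      refine hopen V v A fun i => ?_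
      let V' : Over S := Over.mk (pullback.fst (g i).left v.left ≫ (T' i).hom)
      let p₁ : V' ⟶ T' i := Over.homMk (pullback.fst (g i).left v.left) rfl
      let p₂ : V' ⟶ V := Over.homMk (pullback.snd (g i).left v.left) (by
        show pullback.snd (g i).left v.left ≫ V.hom = pullback.fst (g i).left v.left ≫ (T' i).hom
        rw [← Over.w v, ← pullback.condition_assoc, Over.w (g i)])
      have hp : p₁ ≫ g i = p₂ ≫ v := Over.OverMorphism.ext pullback.condition
      have hset : (pullback.snd (g i).left v.left).base ⁻¹' A =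
          eqLocus V' (P.map p₁.op (s' i)) (P.map p₂.op σ) := by
        ext (q : V'.left)
        constructor
        · intro hq
          obtain ⟨H, c, hH, hc⟩ := exists_geo_at V' q
          obtain ⟨y⟩ := hH.nonempty
          rw [← hc y]
          refine hP.mem_eqLocus c hH ?_ y
          rw [← map_comp_apply', ← map_comp_apply']
          refine hq i H _ _ hH (by rw [Category.assoc, Category.assoc, hp]) fun y => ?_
          show (pullback.snd (g i).left v.left).base (c.left.base y) = _
          rw [hc y]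
        · intro hq j H c d hH hcd hd
          obtain ⟨H', e', a'', hH', he', ha''⟩ := exists_extension p₂ d hH q hd
          apply hP.injective e' hH' hH
          rw [← map_comp_apply', ← map_comp_apply', he', map_comp_apply' a'' p₂,
            ← eq_of_mem_eqLocus hq a'' hH' ha'', ← map_comp_apply']
          refine hs' j i H' _ _ hH' ?_
          rw [Category.assoc, hcd, ← Category.assoc, he', Category.assoc, Category.assoc, hp]
      rw [hset]
      exact isOpen_eqLocus _ _ _
    obtain ⟨y'⟩ := hG'.nonempty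
    have hmem : b.left y' ∈ A := by
      intro i H c d hH hcd hd
      obtain ⟨K, e₁, e₂, hK, he12⟩ := exists_common d b hH hG' (b.left y') hd fun y =>
        congrArg b.left (hG'.subsingleton y y')
      apply hP.injective e₁ hK hH
      rw [← map_comp_apply', ← map_comp_apply', he12, map_comp_apply' e₂ b, hσ, ← map_comp_apply']
      exact hs' i i₀ K _ _ hK (by rw [Category.assoc, hcd, reassoc_of% he12, hb, Category.assoc])
    let W : Over S := Over.mk ((Scheme.Opens.ι (X := V.left) ⟨A, hA⟩) ≫ V.hom)
    let j : W ⟶ V := Over.homMk (Scheme.Opens.ι (X := V.left) ⟨A, hA⟩) rfl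
    haveI : Etale j.left := inferInstanceAs (Etale (Scheme.Opens.ι (X := V.left) ⟨A, hA⟩))
    refine ⟨W, j ≫ v, by rw [Over.comp_left]; infer_instance, P.map j.op σ, ⟨⟨b.left y', hmem⟩, ?_⟩,
      fun i H c d hH hcd => ?_⟩
    · show v.left.base (b.left.base y') = z
      rw [← Scheme.Hom.comp_apply, ← Over.comp_left, hb, ← he]
      exact ha _
    · rw [← map_comp_apply']
      obtain ⟨y⟩ := hH.nonempty
      exact (show (d ≫ j).left y ∈ A from (d.left y).2) i H c (d ≫ j) hH (by rw [hcd, Category.assoc])
        fun y₁ => by rw [hH.subsingleton y₁ y]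
  choose W w hw σ hz hag using key
  obtain ⟨s, hs⟩ := hP.exists_glue W w hw (fun z => ⟨z, hz z⟩) σ fun z z' G a b hG hab => by
    obtain ⟨y⟩ := hG.nonempty
    obtain ⟨i, x, hx⟩ := hsurj ((a ≫ w z).left y)
    obtain ⟨G', e, c, hG', he, -⟩ := exists_extension (g i) (a ≫ w z) hG x fun y' => by
      rw [hx, hG.subsingleton y' y]
    apply hP.injective e hG' hG
    rw [← map_comp_apply', ← map_comp_apply',
      ← hag z i G' c (e ≫ a) hG' (by rw [← he, Category.assoc]),
      ← hag z' i G' c (e ≫ b) hG' (by rw [← he, Category.assoc, hab])]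
  refine ⟨s, fun i => hP.ext fun G c hG => ?_, fun s₁ h₁ => inj s₁ s fun i => ?_⟩
  · obtain ⟨y⟩ := hG.nonempty
    obtain ⟨q, hq⟩ := hz ((c ≫ g i).left y)
    haveI := hw ((c ≫ g i).left y)
    obtain ⟨d, hd, -⟩ := exists_lift (w _) (c ≫ g i) hG q fun y' => by rw [hq, hG.subsingleton y' y]
    rw [hag _ i G c d hG hd.symm, ← hs, ← map_comp_apply', ← map_comp_apply', hd]
  · refine (h₁ i).trans (hP.ext fun G c hG => ?_).symm
    obtain ⟨y⟩ := hG.nonempty
    obtain ⟨q, hq⟩ := hz ((c ≫ g i).left y)
    haveI := hw ((c ≫ g i).left y)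
    obtain ⟨d, hd, -⟩ := exists_lift (w _) (c ≫ g i) hG q fun y' => by rw [hq, hG.subsingleton y' y]
    rw [hag _ i G c d hG hd.symm, ← hs, ← map_comp_apply', ← map_comp_apply', hd]

end EtDescentLib
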