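import Groth.Agent.WeightLib.Pts
import Groth.Agent.WeightLib.EtaleQF
import Mathlib.AlgebraicGeometry.PullbackCarrier
import Mathlib.AlgebraicGeometry.Morphisms.Etale

/-!
# Geometric points in a category of schemes over a base
-/

set_option autoImplicit false
set_option linter.style.haveILetI false
universe u

open CategoryTheory CategoryTheory.Limits AlgebraicGeometry WeightLib

namespace EtDescentLib

/-- A scheme which is the spectrum of an algebraically closed field. -/
def IsGeo (G : Scheme.{u}) : Prop :=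
  ∃ (Ω : Type u) (_ : Field Ω) (_ : IsAlgClosed Ω), Nonempty (G ≅ Spec (CommRingCat.of Ω))

theorem IsGeo.subsingleton {G : Scheme.{u}} (hG : IsGeo G) (z z' : G) : z = z' := by
  obtain ⟨Ω, _, _, ⟨e⟩⟩ := hG
  have h : e.hom z = e.hom z' := Subsingleton.elim _ _
  have := congrArg e.inv h
  rwa [← Scheme.Hom.comp_apply, ← Scheme.Hom.comp_apply, e.hom_inv_id] at this

theorem IsGeo.nonempty {G : Scheme.{u}} (hG : IsGeo G) : Nonempty G := by
  obtain ⟨Ω, _, _, ⟨e⟩⟩ := hG
  exact ⟨e.inv (IsLocalRing.closedPoint Ω)⟩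

variable {S : Scheme.{u}}

/-- A geometric point at a given point. -/
theorem exists_geo_at (T : Over S) (z : T.left) :
    ∃ (G : Over S) (a : G ⟶ T), IsGeo G.left ∧ ∀ y, a.left y = z := by
  refine ⟨Over.mk (gpt z ≫ T.hom), Over.homMk (gpt z) rfl, ⟨_, inferInstance, inferInstance, ⟨Iso.refl _⟩⟩,
    fun (y : ↥(Spec (CommRingCat.of (AlgebraicClosure (T.left.residueField z))))) => ?_⟩
  show (gpt z).base y = z
  rw [Subsingleton.elim y (IsLocalRing.closedPoint (AlgebraicClosure (T.left.residueField z)))]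
  exact img_gpt z

/-- Geometric points lift along étale morphisms. -/
theorem exists_lift {T W : Over S} (h : W ⟶ T) [Etale h.left] {G : Over S} (a : G ⟶ T) (hG : IsGeo G.left)
    (w : W.left) (hw : ∀ y, a.left y = h.left w) :
    ∃ b : G ⟶ W, b ≫ h = a ∧ ∀ y, b.left y = w := by
  obtain ⟨Ω, _, _, ⟨e⟩⟩ := id hG
  haveI : LocallyQuasiFinite h.left := locallyQuasiFinite_of_etale h.left
  obtain ⟨⟨c, hc⟩, hcw⟩ := exists_gpt h.left w (e.inv ≫ a.left) (hw _).symm
  have h1 : (e.hom ≫ c) ≫ h.left = a.left := by rw [Category.assoc, hc, e.hom_inv_id_assoc]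
  refine ⟨Over.homMk (e.hom ≫ c) (by rw [← Over.w h, ← Category.assoc, h1, Over.w a]), Over.OverMorphism.ext h1,
    fun y => ?_⟩
  show c.base (e.hom.base y) = w
  rw [Subsingleton.elim (e.hom.base y) (IsLocalRing.closedPoint Ω)]
  exact hcw

/-- Geometric points lift after refinement along any morphism hitting their image. -/
theorem exists_extension {T T' : Over S} (g : T' ⟶ T) {G : Over S} (a : G ⟶ T) (hG : IsGeo G.left)
    (x : T'.left) (hx : ∀ y, a.left y = g.left x) :
    ∃ (G' : Over S) (e : G' ⟶ G) (a' : G' ⟶ T'), IsGeo G'.left ∧ e ≫ a = a' ≫ g ∧ ∀ y, a'.left y = x := by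
  obtain ⟨y₀⟩ := hG.nonempty
  obtain ⟨z, -, hz⟩ := Scheme.Pullback.exists_preimage_pullback (f := a.left) (g := g.left) y₀ x (hx y₀)
  let P : Over S := Over.mk (pullback.fst a.left g.left ≫ G.hom)
  let p₁ : P ⟶ G := Over.homMk (pullback.fst a.left g.left) rfl
  let p₂ : P ⟶ T' := Over.homMk (pullback.snd a.left g.left) (by
    show pullback.snd a.left g.left ≫ T'.hom = pullback.fst a.left g.left ≫ G.hom
    rw [← Over.w g, ← pullback.condition_assoc, Over.w a])
  obtain ⟨G', c, hG', hc⟩ := exists_geo_at P z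
  refine ⟨G', c ≫ p₁, c ≫ p₂, hG', ?_, fun y => ?_⟩
  · rw [Category.assoc, Category.assoc]
    congr 1
    exact Over.OverMorphism.ext pullback.condition
  · show (pullback.snd a.left g.left).base (c.left.base y) = x
    rw [hc y]
    exact hz

/-- Two geometric points with the same image are dominated by a third one. -/
theorem exists_common {T : Over S} {G₁ G₂ : Over S} (a₁ : G₁ ⟶ T) (a₂ : G₂ ⟶ T) (h₁ : IsGeo G₁.left)
    (h₂ : IsGeo G₂.left) (z : T.left) (hz₁ : ∀ y, a₁.left y = z) (hz₂ : ∀ y, a₂.left y = z) :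
    ∃ (G : Over S) (e₁ : G ⟶ G₁) (e₂ : G ⟶ G₂), IsGeo G.left ∧ e₁ ≫ a₁ = e₂ ≫ a₂ := by
  obtain ⟨y₂⟩ := h₂.nonempty
  obtain ⟨G, e₁, e₂, hG, he, -⟩ := exists_extension a₂ a₁ h₁ y₂ fun y => (hz₁ y).trans (hz₂ y₂).symm
  exact ⟨G, e₁, e₂, hG, he⟩

end EtDescentLib
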